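import Mathlib
import Cfsg.Prelude.Def_OddOrderLocal
import Cfsg.Agent.Lib.NilpotentPerm.Basic
import Cfsg.Agent.Lib.CNTheorem.Basic
import Cfsg.Agent.Lib.RankTwo.FittingRank

/-!
Groups in which every element centraliser is a TI subset: all centralisers of non-identity
elements are nilpotent, and the group is nilpotent as soon as its centre is non-trivial.
-/

set_option autoImplicit false

namespace Cfsg.Agent.Lib.TICentralisers

open Subgroup

/-- Every element centraliser is a TI subset. -/
def Hyp (G : Type*) [Group G] : Prop :=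
  ∀ x : G, Cfsg.IsTISubset (centralizer ({x} : Set G) : Set G)

/-- The centraliser of an element. -/
abbrev cent {G : Type*} [Group G] (x : G) : Subgroup G := centralizer ({x} : Set G)

/-- The normaliser of the centraliser of an element. -/
abbrev nz {G : Type*} [Group G] (x : G) : Subgroup G := normalizer ((cent x : Subgroup G) : Set G)

variable {G : Type*} [Group G]

theorem mem_cent {x a : G} : a ∈ cent x ↔ Commute a x := mem_centralizer_singleton_iff

theorem self_mem_cent (x : G) : x ∈ cent x := mem_cent.2 (Commute.refl x)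

theorem mem_nz_of_conj (hG : Hyp G) {x y g : G} (hy : y ∈ cent x) (hy' : g * y * g⁻¹ ∈ cent x)
    (hy1 : y ≠ 1) : g ∈ nz x :=
  by_contra fun h => hy1 (hG x g h y hy hy')

theorem cent_le_nz (hG : Hyp G) {x y : G} (hy : y ∈ cent x) (hy1 : y ≠ 1) : cent y ≤ nz x :=
  fun g hg => mem_nz_of_conj hG hy
    (by rw [show g * y * g⁻¹ = y from mul_inv_eq_iff_eq_mul.2 (mem_cent.1 hg)]; exact hy) hy1

theorem hyp_subgroup (hG : Hyp G) (H : Subgroup G) : Hyp H := by
  intro x g hg y hy hy'
  by_contra hy1
  have hco : ∀ a : H, a ∈ cent x ↔ (a : G) ∈ cent (x : G) := fun a => by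
    rw [mem_cent, mem_cent]
    exact ⟨fun h => congrArg Subtype.val h, fun h => Subtype.ext h⟩
  refine hg ?_
  have hn : (g : G) ∈ nz (x : G) :=
    mem_nz_of_conj hG ((hco y).1 hy) ((hco _).1 hy') fun e => hy1 (Subtype.ext e)
  refine mem_normalizer_iff.2 fun a => ?_
  rw [hco, hco]
  exact mem_normalizer_iff.1 hn _

/-- In a finite group, if any two conjugates of any element commute then the group is nilpotent. -/
theorem isNilpotent_of_conj_commute [Finite G]
    (h : ∀ x g : G, Commute (g * x * g⁻¹) x) : Group.IsNilpotent G := by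
  refine ((Group.isNilpotent_of_finite_tfae (G := G)).out 0 3 rfl rfl).2 fun p hp P => ?_
  haveI := hp
  have hcomm : ∀ x g k : G, Commute (g * x * g⁻¹) (k * x * k⁻¹) := by
    intro x g k
    have := h (k * x * k⁻¹) (g * k⁻¹)
    rwa [show g * k⁻¹ * (k * x * k⁻¹) * (g * k⁻¹)⁻¹ = g * x * g⁻¹ by group] at this
  have key : ∀ x ∈ (P : Subgroup G), ∀ Q : Sylow p G, x ∈ (Q : Subgroup G) := by
    intro x hx Q
    obtain ⟨k, hk⟩ := P.2 ⟨x, hx⟩
    have hxk : x ^ p ^ k = 1 := congrArg Subtype.val hk
    set N := normalClosure ({x} : Set G) with hN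
    have hmem : ∀ a : G, a ∈ Group.conjugatesOfSet ({x} : Set G) → ∃ g : G, g * x * g⁻¹ = a := by
      intro a ha
      obtain ⟨b, hb, hab⟩ := Group.mem_conjugatesOfSet_iff.1 ha
      rw [Set.mem_singleton_iff] at hb
      subst hb
      exact isConj_iff.1 hab
    have hNc : IsMulCommutative N := by
      refine Subgroup.isMulCommutative_closure ?_
      intro a ha b hb
      obtain ⟨g, rfl⟩ := hmem a ha
      obtain ⟨g', rfl⟩ := hmem b hb
      exact hcomm x g g'
    have hNp : ∀ a ∈ N, a ^ p ^ k = 1 := by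
      intro a ha
      induction ha using Subgroup.closure_induction with
      | mem a ha =>
        obtain ⟨g, rfl⟩ := hmem a ha
        rw [conj_pow, hxk, mul_one, mul_inv_cancel]
      | one => exact one_pow _
      | mul a b ha hb iha ihb =>
        have hab : Commute a b := congrArg Subtype.val (hNc.is_comm.comm ⟨a, ha⟩ ⟨b, hb⟩)
        rw [hab.mul_pow, iha, ihb, mul_one]
      | inv a ha iha => rw [inv_pow, iha, inv_one]
    have hNP : IsPGroup p N := fun a => ⟨k, Subtype.ext (hNp a a.2)⟩
    haveI : N.Normal := normalClosure_normal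
    have hle : N ≤ (Q : Subgroup G) := by
      have := hNP.to_sup_of_normal_left Q.2
      exact (Q.is_maximal' this le_sup_right) ▸ le_sup_left
    exact hle (subset_normalClosure (Set.mem_singleton x))
  refine ⟨fun x hx g => ?_⟩
  have := key x hx (g⁻¹ • P)
  rw [Sylow.coe_subgroup_smul, mem_pointwise_smul_iff_inv_smul_mem] at this
  simpa [MulAut.smul_def, mul_assoc] using this

/-- Centralisers of non-identity elements are nilpotent. -/
theorem cent_isNilpotent [Finite G] (hG : Hyp G) {y : G} (hy : y ≠ 1) :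
    Group.IsNilpotent (cent y) := by
  refine isNilpotent_of_conj_commute fun x g => Subtype.ext ?_
  have hxy : y ∈ cent (x : G) := mem_cent.2 (mem_cent.1 x.2).symm
  have hg : (g : G) ∈ nz (x : G) := cent_le_nz hG hxy hy g.2
  exact mem_cent.1 ((mem_normalizer_iff.1 hg _).1 (self_mem_cent (x : G)))

theorem isCNGroup [Finite G] (hG : Hyp G) : Cfsg.IsCNGroup G := fun _ hg => cent_isNilpotent hG hg

theorem isNilpotent_of_center [Finite G] (hG : Hyp G) (h : center G ≠ ⊥) : Group.IsNilpotent G := by
  obtain ⟨z, hz, hz1⟩ := (center G).bot_or_exists_ne_one.resolve_left h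
  exact CNTheorem.isNilpotent_of_eq_top
    (eq_top_iff.2 fun g _ => mem_cent.2 (mem_center_iff.1 hz g)) (cent_isNilpotent hG hz1)

/-- Commuting elements of coprime order in the centraliser of a third. -/
theorem commute_coprime [Finite G] (hG : Hyp G) {g a b : G} (hg : g ≠ 1) (ha : Commute a g)
    (hb : Commute b g) (h : (orderOf a).Coprime (orderOf b)) : Commute a b :=
  CNTheorem.commute_of_commute_of_coprime (isCNGroup hG) hg ha hb h

/-- An element lies in a subgroup if its prime power parts do. -/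
theorem mem_of_primary [Finite G] {K : Subgroup G} {x : G}
    (h : ∀ p : ℕ, p.Prime → ∀ y ∈ zpowers x, (∃ k : ℕ, orderOf y = p ^ k) → y ∈ K) : x ∈ K := by
  refine RankTwo.mem_of_forall_prime_power fun p hp y hy hk => h p hp y hy ?_
  obtain ⟨k, hk⟩ := hk
  obtain ⟨j, -, hj⟩ := (Nat.dvd_prime_pow hp).1 (orderOf_dvd_of_pow_eq_one hk)
  exact ⟨j, hj⟩

theorem commute_zpowers {g x y : G} (h : Commute g x) (hy : y ∈ zpowers x) : Commute g y := by
  obtain ⟨i, rfl⟩ := mem_zpowers_iff.1 hy
  exact h.zpow_right i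

theorem coprime_of_ne {p q : ℕ} (hp : p.Prime) (hq : q.Prime) (h : p ≠ q) {a b : G}
    (ha : ∃ k : ℕ, orderOf a = p ^ k) (hb : ∃ k : ℕ, orderOf b = q ^ k) :
    (orderOf a).Coprime (orderOf b) := by
  obtain ⟨i, hi⟩ := ha
  obtain ⟨j, hj⟩ := hb
  rw [hi, hj]
  exact Nat.Coprime.pow i j ((Nat.coprime_primes hp hq).2 h)

/-- An element of `p`-power order normalising a non-trivial `p`-subgroup commutes with one of its
non-identity elements. -/
theorem exists_commute_mem [Finite G] {p : ℕ} [Fact p.Prime] {P : Subgroup G} (hP : IsPGroup p P)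
    (hP1 : P ≠ ⊥) {x : G} (hx : x ∈ normalizer (P : Set G)) (hxp : ∃ k : ℕ, orderOf x = p ^ k) :
    ∃ a ∈ P, a ≠ 1 ∧ Commute x a := by
  obtain ⟨k, hk⟩ := hxp
  have hX : IsPGroup p (zpowers x) := IsPGroup.of_card (n := k) (by rw [Nat.card_zpowers, hk])
  letI : MulAction (zpowers x) P :=
    { smul := fun g a => ⟨(g : G) * a * (g : G)⁻¹,
        (mem_normalizer_iff.1 ((zpowers_le (H := normalizer (P : Set G))).2 hx g.2) _).1 a.2⟩
      one_smul := fun a => Subtype.ext (by show ((1 : zpowers x) : G) * a * _ = _; simp)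
      mul_smul := fun g h a => Subtype.ext (by
        show ((g * h : zpowers x) : G) * a * _ = (g : G) * ((h : G) * a * (h : G)⁻¹) * (g : G)⁻¹
        simp [mul_assoc]) }
  obtain ⟨n, hn, hcard⟩ :=
    hP.nontrivial_iff_card.1 ((Subgroup.nontrivial_iff_ne_bot P).2 hP1)
  have h1 : (1 : P) ∈ MulAction.fixedPoints (zpowers x) P := fun g => Subtype.ext (by
    show (g : G) * ((1 : P) : G) * (g : G)⁻¹ = _
    simp)
  obtain ⟨b, hb, hb1⟩ := hX.exists_fixed_point_of_prime_dvd_card_of_fixed_point P
    (hcard ▸ dvd_pow_self p hn.ne') h1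
  refine ⟨b.1, b.2, fun e => hb1 (Subtype.ext e.symm), ?_⟩
  exact mul_inv_eq_iff_eq_mul.1 (congrArg Subtype.val (hb ⟨x, mem_zpowers x⟩))

end Cfsg.Agent.Lib.TICentralisers
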