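import Mathlib
import Cfsg.Prelude.Def_Solvable
import Cfsg.Agent.Lib.TICentralisers.Basic
import Cfsg.Agent.Lib.Frobenius.Complement
import Cfsg.Agent.Lib.FrobeniusFree.Main

/-!
A group with TI element centralisers and a non-trivial normal nilpotent subgroup is nilpotent or a
Frobenius group with complement cyclic or cyclic of odd order times the quaternion group of order 8.
-/

set_option autoImplicit false

namespace Cfsg.Agent.Lib.TICentralisers

open Subgroup

variable {G : Type*} [Group G] [Finite G]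

/-- A non-identity element whose centraliser contains a non-trivial normal subgroup has normal
centraliser. -/
theorem cent_normal (hG : Hyp G) {z a : G} {A : Subgroup G} (hA : A.Normal) (ha : a ∈ A)
    (ha1 : a ≠ 1) (hle : A ≤ cent z) : (cent z).Normal :=
  normalizer_eq_top_iff.1 (eq_top_iff.2 fun g _ =>
    mem_nz_of_conj hG (hle ha) (hle (hA.conj_mem a ha g)) ha1)

/-- A largest normal centraliser: the Frobenius kernel. -/
theorem exists_kernel (hG : Hyp G) {A : Subgroup G} (hA : A.Normal) (hAn : Group.IsNilpotent A)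
    (hA1 : A ≠ ⊥) :
    ∃ F : Subgroup G, F.Normal ∧ Group.IsNilpotent F ∧ F ≠ ⊥ ∧
      ∀ z : G, z ≠ 1 → z ∈ F → F ≤ cent z → cent z = F := by
  classical
  let S : Set G := {z | z ≠ 1 ∧ (cent z).Normal}
  have hS : S.Nonempty := by
    haveI : Nontrivial A := (nontrivial_iff_ne_bot A).2 hA1
    obtain ⟨a, ha, ha1⟩ :=
      (center A).bot_or_exists_ne_one.resolve_left (FrobeniusFree.center_ne_bot_of_nilpotent hAn)
    have ha1' : (a : G) ≠ 1 := fun e => ha1 (Subtype.ext e)
    exact ⟨a, ha1', cent_normal hG hA a.2 ha1' fun b hb =>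
      mem_cent.2 (congrArg Subtype.val (mem_center_iff.1 ha ⟨b, hb⟩))⟩
  obtain ⟨z₀, hz₀, hmax⟩ := S.exists_max_image (fun z => Nat.card (cent z)) S.toFinite hS
  have h1 : z₀ ∈ cent z₀ := self_mem_cent z₀
  refine ⟨cent z₀, hz₀.2, cent_isNilpotent hG hz₀.1, fun e => hz₀.1 ?_, fun z hz hzF hle => ?_⟩
  · rwa [e, mem_bot] at h1
  · exact (eq_of_le_of_card_ge hle (hmax z ⟨hz, cent_normal hG hz₀.2 h1 hz₀.1 hle⟩)).symm

variable {F : Subgroup G} (hG : Hyp G) (hFn : Group.IsNilpotent F) [hFN : F.Normal]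
  (hmax : ∀ z : G, z ≠ 1 → z ∈ F → F ≤ cent z → cent z = F)
include hG hFn hmax

/-- The kernel is a Hall subgroup. -/
theorem pElement_mem {p : ℕ} (hp : p.Prime) (hpF : p ∣ Nat.card F) {y : G}
    (hy : ∃ k : ℕ, orderOf y = p ^ k) : y ∈ F := by
  classical
  haveI : Fact p.Prime := ⟨hp⟩
  obtain ⟨k, hk⟩ := hy
  obtain ⟨P, hyP⟩ := (IsPGroup.of_card (p := p) (n := k) (G := zpowers y)
    (by rw [Nat.card_zpowers, hk])).exists_le_sylow
  -- the Sylow subgroup of `F` is normal in `G`
  haveI := hFn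
  obtain ⟨Q⟩ : Nonempty (Sylow p F) := inferInstance
  let Q' : Subgroup G := (Q : Subgroup F).map F.subtype
  haveI : (Q : Subgroup F).Normal := inferInstance
  haveI : (Q : Subgroup F).Characteristic := Q.characteristic_of_normal ‹_›
  have hQn : Q'.Normal := inferInstance
  have hQp : IsPGroup p Q' := Q.2.map _
  have hQP : Q' ≤ (P : Subgroup G) := by
    have := hQp.to_sup_of_normal_left P.2
    exact (P.is_maximal' this le_sup_right) ▸ le_sup_left
  -- an element of `Q` centralised by `P`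
  have hQ1 : Q' ≠ ⊥ := by
    intro e
    have h1 := Q.card_eq_multiplicity
    have h2 : Nat.card (Q : Subgroup F) = 1 := by
      rw [← card_map_of_injective (f := F.subtype) F.subtype_injective]
      exact card_eq_one.2 e
    rw [show Nat.card Q = Nat.card (Q : Subgroup F) from rfl, h2] at h1
    have h3 := hp.factorization_pos_of_dvd Nat.card_pos.ne' hpF
    have h4 : 1 < p ^ (Nat.card F).factorization p := Nat.one_lt_pow h3.ne' hp.one_lt
    omega
  letI : MulAction (P : Subgroup G) Q' :=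
    { smul := fun g a => ⟨(g : G) * a * (g : G)⁻¹, hQn.conj_mem _ a.2 _⟩
      one_smul := fun a => Subtype.ext (by show ((1 : (P : Subgroup G)) : G) * a * _ = _; simp)
      mul_smul := fun g h a => Subtype.ext (by
        show ((g * h : (P : Subgroup G)) : G) * a * _ = (g : G) * ((h : G) * a * (h : G)⁻¹) * (g : G)⁻¹
        simp [mul_assoc]) }
  obtain ⟨n, hn, hcard⟩ := hQp.nontrivial_iff_card.1 ((nontrivial_iff_ne_bot Q').2 hQ1)
  have h1 : (1 : Q') ∈ MulAction.fixedPoints (P : Subgroup G) Q' := fun g => Subtype.ext (by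
    show (g : G) * ((1 : Q') : G) * (g : G)⁻¹ = _
    simp)
  obtain ⟨b, hb, hb1⟩ := P.2.exists_fixed_point_of_prime_dvd_card_of_fixed_point Q'
    (hcard ▸ dvd_pow_self p hn.ne') h1
  have hbP : ∀ g ∈ (P : Subgroup G), Commute g (b : G) := fun g hg =>
    mul_inv_eq_iff_eq_mul.1 (congrArg Subtype.val (hb ⟨g, hg⟩))
  have hbF : (b : G) ∈ F := map_subtype_le _ b.2
  have hbp : ∃ k : ℕ, orderOf (b : G) = p ^ k := by
    obtain ⟨j, hj⟩ := IsPGroup.iff_orderOf.1 hQp b
    exact ⟨j, by rw [Subgroup.orderOf_coe, hj]⟩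
  have hle : F ≤ cent (b : G) := fun f hf => by
    refine mem_of_primary fun r hr f' hf' hord => mem_cent.2 ?_
    have hf'F : f' ∈ F := zpowers_le.2 hf hf'
    by_cases hrp : r = p
    · subst hrp
      refine hbP f' (hQP ?_)
      obtain ⟨j, hj⟩ := hord
      obtain ⟨Q₁, hQ₁⟩ := (IsPGroup.of_card (p := r) (n := j) (G := zpowers (⟨f', hf'F⟩ : F))
        (by rw [Nat.card_zpowers, Subgroup.orderOf_mk, hj])).exists_le_sylow
      haveI := Sylow.unique_of_normal Q ‹_›
      exact ⟨_, (Subsingleton.elim Q₁ Q) ▸ hQ₁ (mem_zpowers _), rfl⟩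
    · exact CNTheorem.commute_of_mem_nilpotent hFn hf'F hbF (coprime_of_ne hr hp hrp hord hbp)
  have hb1' : (b : G) ≠ 1 := fun e => hb1 (Subtype.ext e.symm)
  rw [← hmax _ hb1' hbF hle]
  exact mem_cent.2 (hbP y (hyP (mem_zpowers y)))

/-- The centraliser of a non-identity element of the kernel lies in the kernel. -/
theorem cent_le_kernel {x : G} (hx : x ∈ F) (hx1 : x ≠ 1) : cent x ≤ F := by
  intro c hc
  haveI : Nontrivial F := ⟨⟨⟨x, hx⟩, 1, fun e => hx1 (congrArg Subtype.val e)⟩⟩
  haveI := hFn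
  obtain ⟨a, ha, ha1⟩ :=
    (center F).bot_or_exists_ne_one.resolve_left (FrobeniusFree.center_ne_bot_of_nilpotent hFn)
  have ha1' : (a : G) ≠ 1 := fun e => ha1 (Subtype.ext e)
  have haC : ∀ f ∈ F, Commute (a : G) f := fun f hf =>
    (congrArg Subtype.val (mem_center_iff.1 ha ⟨f, hf⟩)).symm
  have hC : cent (a : G) = F :=
    hmax _ ha1' a.2 fun f hf => mem_cent.2 (haC f hf).symm
  refine mem_of_primary fun q hq y hy hord => ?_
  by_cases hqF : q ∣ Nat.card F
  · exact pElement_mem hG hFn hmax hq hqF hord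
  · rw [← hC, mem_cent]
    refine commute_coprime hG hx1 (commute_zpowers (mem_cent.1 hc).symm hy).symm (haC x hx) ?_
    obtain ⟨j, hj⟩ := hord
    rw [hj]
    refine Nat.Coprime.pow_left _ (hq.coprime_iff_not_dvd.2 fun hd => hqF (hd.trans ?_))
    rw [Subgroup.orderOf_coe]
    exact orderOf_dvd_natCard a

/-- The kernel order is prime to its index. -/
theorem coprime_index : (Nat.card F).Coprime F.index := by
  refine Nat.coprime_of_dvd fun p hp hpF hpi => ?_
  haveI : Fact p.Prime := ⟨hp⟩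
  obtain ⟨P⟩ : Nonempty (Sylow p G) := inferInstance
  have hle : (P : Subgroup G) ≤ F := fun y hy => by
    obtain ⟨k, hk⟩ := IsPGroup.iff_orderOf.1 P.2 ⟨y, hy⟩
    exact pElement_mem hG hFn hmax hp hpF ⟨k, by rwa [Subgroup.orderOf_mk] at hk⟩
  exact P.not_dvd_index (hpi.trans (index_dvd_of_le hle))


end Cfsg.Agent.Lib.TICentralisers
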