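import Mathlib
import Cfsg.Agent.Lib.TICentralisers.Basic
import Cfsg.Agent.Lib.SECount.Basic
import Cfsg.Agent.Lib.CNTheorem.Main
import Cfsg.Agent.Lib.ZStar.Final
import Cfsg.Agent.Lib.Perm.SolvablePrimeDegree

/-!
TI element centralisers, no non-trivial normal nilpotent subgroup: the centraliser `C` of a
central involution of a Sylow 2-subgroup is the centraliser of each of its involutions and
`M = N(C)` is strongly embedded.
-/

set_option autoImplicit false
set_option linter.unusedSectionVars false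

namespace Cfsg.Agent.Lib.TICentralisers

open Subgroup

universe u

variable {G : Type u} [Group G] [Finite G]

/-- No non-trivial normal nilpotent subgroup. -/
def NoNil (G : Type*) [Group G] : Prop :=
  ∀ N : Subgroup G, N.Normal → Group.IsNilpotent N → N = ⊥

theorem odd_normal_eq_bot (hG : Hyp G) (hN : NoNil G) (N : Subgroup G) (hn : N.Normal)
    (hodd : Odd (Nat.card N)) : N = ⊥ := by
  by_contra h
  haveI := hn
  haveI : Group.IsSolvable N :=
    CNTheorem.isSolvable_of_odd_cn hodd (isCNGroup (hyp_subgroup hG N))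
  haveI : Nontrivial N := (nontrivial_iff_ne_bot N).2 h
  obtain ⟨n, hn0, hn1⟩ : ∃ n, derivedSeries N n ≠ ⊥ ∧ derivedSeries N (n + 1) = ⊥ := by
    classical
    have hex : ∃ k, derivedSeries N k = ⊥ := Group.IsSolvable.solvable (G := N)
    have h0 : Nat.find hex ≠ 0 := fun h0 => by
      have := Nat.find_spec hex
      rw [h0, derivedSeries_zero] at this
      exact top_ne_bot this
    refine ⟨Nat.find hex - 1, Nat.find_min hex (by omega), ?_⟩
    rw [Nat.sub_add_cancel (Nat.one_le_iff_ne_zero.2 h0)]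
    exact Nat.find_spec hex
  haveI := derivedSeries_characteristic N n
  have hnil : Group.IsNilpotent (derivedSeries N n) := by
    refine isNilpotent_of_conj_commute fun x g => ?_
    have h2 := commutator_mem_commutator (g * x * g⁻¹).2 x.2
    rw [← derivedSeries_succ, hn1, mem_bot, commutatorElement_eq_one_iff_mul_comm] at h2
    exact Subtype.ext h2
  haveI := hnil
  have h3 : ((derivedSeries N n).map N.subtype) = ⊥ := hN _ inferInstance
    (CNTheorem.isNilpotent_map N.subtype hnil)
  exact hn0 ((map_eq_bot_iff_of_injective _ N.subtype_injective).1 h3)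

theorem center_eq_bot (hN : NoNil G) : center G = ⊥ := hN _ inferInstance
  (isNilpotent_of_conj_commute fun x g => Subtype.ext ((mem_center_iff.1 x.2 _)))

theorem not_isolated (hG : Hyp G) (hN : NoNil G) {z : G} : ¬ Cfsg.IsIsolatedInvolution z := by
  intro hz
  have hbot : Cfsg.oddCore G = ⊥ := odd_normal_eq_bot hG hN _ inferInstance
    (Nat.coprime_two_right.1 PSolvable.pPrimeCore_coprime)
  have hzc : z ∈ center G := ZStar.mem_center_of_forall_commutator fun g => by
    have := ZStar.zStar G z hz g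
    rwa [hbot, mem_bot] at this
  rw [center_eq_bot hN, mem_bot] at hzc
  have := hz.1
  rw [hzc, orderOf_one] at this
  omega

/-- The standing data: `z` is a central involution of the Sylow 2-subgroup `S`. -/
structure Data (S : Sylow 2 G) (z : G) : Prop where
  hyp : Hyp G
  noNil : NoNil G
  ord : orderOf z = 2
  mem : z ∈ (S : Subgroup G)
  central : ∀ s ∈ (S : Subgroup G), Commute s z

theorem exists_data (hG : Hyp G) (hN : NoNil G) (hnt : Nontrivial G) :
    ∃ (S : Sylow 2 G) (z : G), Data S z := by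
  classical
  haveI : Fact (Nat.Prime 2) := ⟨Nat.prime_two⟩
  obtain ⟨S⟩ : Nonempty (Sylow 2 G) := inferInstance
  have heven : 2 ∣ Nat.card G := by
    by_contra h
    exact (bot_ne_top : (⊥ : Subgroup G) ≠ ⊤) (odd_normal_eq_bot hG hN ⊤ inferInstance (by
      rw [card_top]; exact Nat.odd_iff.2 (by omega))).symm
  haveI : Nontrivial (S : Subgroup G) := (nontrivial_iff_ne_bot _).2 fun h => by
    have := S.card_eq_multiplicity
    rw [show Nat.card S = Nat.card (S : Subgroup G) from rfl, h, card_bot] at this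
    have h2 := Nat.prime_two.factorization_pos_of_dvd Nat.card_pos.ne' heven
    have h3 : 1 < 2 ^ (Nat.card G).factorization 2 := Nat.one_lt_pow h2.ne' (by norm_num)
    omega
  obtain ⟨n, hn, hcard⟩ := (S.2.to_subgroup (center (S : Subgroup G))).nontrivial_iff_card.1
    S.2.center_nontrivial
  obtain ⟨z, hz⟩ := exists_prime_orderOf_dvd_card' (G := center (S : Subgroup G)) 2
    (hcard ▸ dvd_pow_self 2 hn.ne')
  refine ⟨S, ((z : (S : Subgroup G)) : G), hG, hN, ?_, z.1.2, fun s hs =>
    congrArg Subtype.val (mem_center_iff.1 z.2 ⟨s, hs⟩)⟩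
  rw [Subgroup.orderOf_coe, Subgroup.orderOf_coe, hz]

namespace Data

variable {S : Sylow 2 G} {z : G} (d : Data S z)
include d

theorem ne_one : z ≠ 1 := SECount.invo_ne_one d.ord

theorem sylow_le : (S : Subgroup G) ≤ cent z := fun s hs => mem_cent.2 (d.central s hs)

theorem cent_nilpotent : Group.IsNilpotent (cent z) := cent_isNilpotent d.hyp d.ne_one

theorem nz_ne_top : nz z ≠ ⊤ := fun h => by
  have h1 := d.noNil (cent z) (normalizer_eq_top_iff.1 h) d.cent_nilpotent
  exact d.ne_one (by simpa [h1] using self_mem_cent z)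

theorem conj_sylow {g : G} (hg : g ∈ nz z) {s : G} (hs : s ∈ (S : Subgroup G)) :
    g * s * g⁻¹ ∈ (S : Subgroup G) := by
  haveI : Fact (Nat.Prime 2) := ⟨Nat.prime_two⟩
  haveI := d.cent_nilpotent
  have hle : ∀ T : Sylow 2 G, (T : Subgroup G) ≤ cent z → T = S := fun T hT => by
    have hn : ((S.subtype d.sylow_le : Sylow 2 (cent z)) : Subgroup (cent z)).Normal := inferInstance
    haveI := Sylow.unique_of_normal _ hn
    refine Sylow.subtype_injective (Subsingleton.elim (T.subtype hT) (S.subtype d.sylow_le))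
  have hT : ((g • S : Sylow 2 G) : Subgroup G) ≤ cent z := fun x hx => by
    rw [Sylow.coe_subgroup_smul, mem_pointwise_smul_iff_inv_smul_mem] at hx
    have h := (mem_normalizer_iff.1 hg _).1 (d.sylow_le hx)
    simpa [MulAut.smul_def, mul_assoc] using h
  rw [← hle _ hT, Sylow.coe_subgroup_smul, mem_pointwise_smul_iff_inv_smul_mem]
  simpa [MulAut.smul_def, mul_assoc] using hs

theorem two_element_mem {x : G} (hx : x ∈ nz z) (hk : ∃ k : ℕ, orderOf x = 2 ^ k) :
    x ∈ (S : Subgroup G) := by
  obtain ⟨k, hk⟩ := hk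
  have hp : IsPGroup 2 (zpowers x) := IsPGroup.of_card (n := k) (by rw [Nat.card_zpowers, hk])
  have hxn : x ∈ normalizer ((S : Subgroup G) : Set G) := mem_normalizer_iff.2 fun s =>
    ⟨d.conj_sylow hx, fun h => by
      have := d.conj_sylow (inv_mem hx) h
      simpa [mul_assoc] using this⟩
  have hsup := S.2.to_sup_of_normal_left' hp (zpowers_le.2 hxn)
  exact S.is_maximal' hsup le_sup_left ▸ le_sup_right (a := (S : Subgroup G)) (mem_zpowers x)

theorem invo_mem {x : G} (hx : orderOf x = 2) (hxM : x ∈ nz z) : x ∈ cent z :=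
  d.sylow_le (d.two_element_mem hxM ⟨1, by rw [hx, pow_one]⟩)

theorem stronglyEmbedded : Cfsg.IsStronglyEmbedded (nz z) := by
  classical
  haveI : Fact (Nat.Prime 2) := ⟨Nat.prime_two⟩
  refine ⟨d.nz_ne_top, ?_, fun g hg => ?_⟩
  · have h : orderOf (⟨z, le_normalizer (self_mem_cent z)⟩ : nz z) = 2 := by
      rw [Subgroup.orderOf_mk, d.ord]
    exact even_iff_two_dvd.2 (h ▸ orderOf_dvd_natCard _)
  · rw [← Nat.not_even_iff_odd]
    intro hev
    obtain ⟨⟨x, hxM, hxg⟩, hx⟩ := exists_prime_orderOf_dvd_card'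
      (G := ↥(nz z ⊓ (nz z).map (MulAut.conj g).toMonoidHom)) 2 hev.two_dvd
    have hx : orderOf x = 2 := (orderOf_injective
      (nz z ⊓ (nz z).map (MulAut.conj g).toMonoidHom).subtype Subtype.val_injective _).trans hx
    have hy : g⁻¹ * x * g ∈ nz z := SECount.mem_map_conj.1 hxg
    have hy2 : orderOf (g⁻¹ * x * g) = 2 := by
      have := SECount.orderOf_conj_eq g⁻¹ x
      rw [inv_inv] at this
      rw [this, hx]
    refine hg (mem_nz_of_conj d.hyp (d.invo_mem hy2 hy) ?_ (SECount.invo_ne_one hy2))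
    rw [show g * (g⁻¹ * x * g) * g⁻¹ = x by group]
    exact d.invo_mem hx hxM

theorem exists_invo : ∃ u : G, orderOf u = 2 ∧ u ∉ nz z :=
  SECount.exists_invo_not_mem d.stronglyEmbedded

theorem cent_invo {t : G} (ht : orderOf t = 2) (htM : t ∈ nz z) : cent t = cent z := by
  obtain ⟨u, hu, huM⟩ := d.exists_invo
  obtain ⟨a, ha, hat⟩ := SECount.exists_conj_mem_inf d.stronglyEmbedded hu huM d.ord
    (le_normalizer (self_mem_cent z)) ht htM
  ext x
  rw [mem_normalizer_iff.1 (inv_mem ha.1) x, mem_cent, mem_cent, ← hat, inv_inv]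
  constructor
  · intro h
    have h' : a⁻¹ * (x * (a * z * a⁻¹)) * a = a⁻¹ * ((a * z * a⁻¹) * x) * a := by rw [h.eq]
    show a⁻¹ * x * a * z = z * (a⁻¹ * x * a)
    simpa [mul_assoc] using h'
  · intro h
    have h' : a * (a⁻¹ * x * a * z) * a⁻¹ = a * (z * (a⁻¹ * x * a)) * a⁻¹ := by rw [h.eq]
    show x * (a * z * a⁻¹) = a * z * a⁻¹ * x
    simpa [mul_assoc] using h'

end Data

end Cfsg.Agent.Lib.TICentralisers
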