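import Mathlib
import Cfsg.Agent.Lib.TICentralisers.Local

/-!
With `C = C(z)`, `M = N(C)`, `u` an involution outside `M` and `D = M ∩ uMu⁻¹`: `M = DC`,
`D ∩ C = 1`, `u` inverts `D`, and `D` fixes only the two cosets `M` and `uM`.
-/

set_option autoImplicit false
set_option linter.unusedSectionVars false

namespace Cfsg.Agent.Lib.TICentralisers

open Subgroup

universe u

variable {G : Type u} [Group G] [Finite G]

/-- `D = M ∩ uMu⁻¹` -/
abbrev twoPt (z u : G) : Subgroup G := nz z ⊓ (nz z).map (MulAut.conj u).toMonoidHom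

theorem mem_twoPt {z u x : G} : x ∈ twoPt z u ↔ x ∈ nz z ∧ u⁻¹ * x * u ∈ nz z :=
  and_congr Iff.rfl SECount.mem_map_conj

theorem mem_twoPt_congr {z g i x : G} (hiH : g⁻¹ * i ∈ nz z) :
    x ∈ twoPt z i ↔ x ∈ nz z ∧ g⁻¹ * x * g ∈ nz z := by
  rw [mem_twoPt]
  refine and_congr_right fun _ => ?_
  have he : i⁻¹ * x * i = (g⁻¹ * i)⁻¹ * (g⁻¹ * x * g) * (g⁻¹ * i) := by group
  rw [he]
  constructor
  · intro h
    have := Subgroup.mul_mem _ (Subgroup.mul_mem _ hiH h) (Subgroup.inv_mem _ hiH)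
    simpa [mul_assoc] using this
  · exact fun h => Subgroup.mul_mem _ (Subgroup.mul_mem _ (Subgroup.inv_mem _ hiH) h) hiH

namespace Data

variable {S : Sylow 2 G} {z : G} (d : Data S z)
include d

theorem odd_twoPt {u : G} (hu : u ∉ nz z) : Odd (Nat.card (twoPt z u)) :=
  d.stronglyEmbedded.2.2 u hu

theorem two_not_dvd_twoPt {u : G} (hu : u ∉ nz z) {x : G} (hx : x ∈ twoPt z u) :
    ¬ 2 ∣ orderOf x := fun h =>
  Nat.not_even_iff_odd.2 (d.odd_twoPt hu)
    (even_iff_two_dvd.2 (h.trans (Subgroup.orderOf_dvd_natCard _ hx)))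

/-- An element of odd order commuting with a non-identity element of `C` lies in `C`. -/
theorem mem_cent_of_commute {a e : G} (ha : a ∈ cent z) (ha1 : a ≠ 1) (he : ¬ 2 ∣ orderOf e)
    (h : Commute e a) : e ∈ cent z := by
  refine mem_cent.2 (commute_coprime d.hyp ha1 h (mem_cent.1 ha).symm ?_)
  rw [d.ord]
  exact (Nat.prime_two.coprime_iff_not_dvd.2 he).symm

/-- `C` is a Hall subgroup of `M`. -/
theorem prime_element_mem {p : ℕ} [Fact p.Prime] (hpC : p ∣ Nat.card (cent z)) {x : G}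
    (hx : x ∈ nz z) (hxp : orderOf x = p) : x ∈ cent z := by
  by_cases hp2 : p = 2
  · subst hp2
    exact d.invo_mem hxp hx
  haveI := d.cent_nilpotent
  obtain ⟨Q⟩ : Nonempty (Sylow p (cent z)) := inferInstance
  haveI : (Q : Subgroup (cent z)).Normal := inferInstance
  haveI := Sylow.unique_of_normal Q ‹_›
  let Q' : Subgroup G := (Q : Subgroup (cent z)).map (cent z).subtype
  have hQ1 : Q' ≠ ⊥ := by
    intro e
    refine Q.not_dvd_index ?_
    have h : (Q : Subgroup (cent z)) = ⊥ :=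
      (map_eq_bot_iff_of_injective _ (cent z).subtype_injective).1 e
    rwa [h, index_bot]
  have hxn : x ∈ normalizer (Q' : Set G) := by
    have key : ∀ g ∈ nz z, ∀ a ∈ Q', g * a * g⁻¹ ∈ Q' := by
      rintro g hg _ ⟨a, ha, rfl⟩
      have hmem : g * (a : G) * g⁻¹ ∈ cent z := (mem_normalizer_iff.1 hg _).1 a.2
      obtain ⟨k, hk⟩ := Q.2 ⟨a, ha⟩
      have hk' : (a : G) ^ p ^ k = 1 := congrArg (fun b : cent z => (b : G)) (congrArg Subtype.val hk)
      obtain ⟨Q₁, hQ₁⟩ := (IsPGroup.of_card (p := p) (n := (Nat.factorization (orderOf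
          (⟨_, hmem⟩ : cent z)) p)) (G := zpowers (⟨_, hmem⟩ : cent z)) (by
        rw [Nat.card_zpowers]
        have hd : orderOf (⟨_, hmem⟩ : cent z) ∣ p ^ k := by
          rw [Subgroup.orderOf_mk]
          exact orderOf_dvd_of_pow_eq_one (by rw [conj_pow, hk', mul_one, mul_inv_cancel])
        obtain ⟨j, -, hj⟩ := (Nat.dvd_prime_pow Fact.out).1 hd
        rw [hj, Nat.Prime.factorization_pow Fact.out, Finsupp.single_eq_same])).exists_le_sylow
      exact ⟨_, (Subsingleton.elim Q₁ Q) ▸ hQ₁ (mem_zpowers _), rfl⟩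
    refine mem_normalizer_iff.2 fun a => ⟨key x hx a, fun h => ?_⟩
    have := key x⁻¹ (inv_mem hx) _ h
    simpa [mul_assoc] using this
  obtain ⟨a, ha, ha1, hxa⟩ := exists_commute_mem (Q.2.map _) hQ1 hxn ⟨1, by rw [hxp, pow_one]⟩
  exact d.mem_cent_of_commute (map_subtype_le _ ha) ha1
    (by rw [hxp]; exact fun h => hp2 ((Nat.prime_dvd_prime_iff_eq Nat.prime_two Fact.out).1 h).symm) hxa

theorem inf_cent_eq_one {u x : G} (hu : u ∉ nz z) (hx : x ∈ twoPt z u) (hxC : x ∈ cent z) :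
    x = 1 := by
  by_contra h1
  set p := (orderOf x).minFac
  haveI : Fact p.Prime := ⟨Nat.minFac_prime fun h => h1 (orderOf_eq_one_iff.1 h)⟩
  obtain ⟨y, hy⟩ := exists_prime_orderOf_dvd_card' (G := zpowers x) p
    (by rw [Nat.card_zpowers]; exact Nat.minFac_dvd _)
  have hyD : (y : G) ∈ twoPt z u := zpowers_le.2 hx y.2
  have hyC : (y : G) ∈ cent z := zpowers_le.2 hxC y.2
  rw [← Subgroup.orderOf_coe] at hy
  have hconj : orderOf (u⁻¹ * (y : G) * u) = p := by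
    have := SECount.orderOf_conj_eq u⁻¹ (y : G)
    rwa [inv_inv, hy] at this
  have hmem := d.prime_element_mem (hy ▸ Subgroup.orderOf_dvd_natCard _ hyC)
    (mem_twoPt.1 hyD).2 hconj
  refine hu (mem_nz_of_conj d.hyp hmem ?_ fun e => ?_)
  · rw [show u * (u⁻¹ * (y : G) * u) * u⁻¹ = (y : G) by group]
    exact hyC
  · rw [e, orderOf_one] at hconj
    exact (Fact.out : p.Prime).one_lt.ne hconj

theorem card_twoPt {u : G} (hu : orderOf u = 2) (huH : u ∉ nz z) :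
    Nat.card (twoPt z u) = Nat.card {t : G // orderOf t = 2 ∧ t ∈ nz z} := by
  have hH := d.stronglyEmbedded
  have hzM : z ∈ nz z := le_normalizer (self_mem_cent z)
  let f : twoPt z u → {t : G // orderOf t = 2 ∧ t ∈ nz z} := fun a =>
    ⟨a.1 * z * a.1⁻¹, (SECount.orderOf_conj_eq _ _).trans d.ord,
      Subgroup.mul_mem _ (Subgroup.mul_mem _ a.2.1 hzM) (Subgroup.inv_mem _ a.2.1)⟩
  refine Nat.card_eq_of_bijective f ⟨fun a b h => ?_, ?_⟩
  · have h' : a.1 * z * a.1⁻¹ = b.1 * z * b.1⁻¹ := congrArg Subtype.val h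
    have hc : (a.1)⁻¹ * b.1 ∈ cent z :=
      mem_centralizer_singleton_iff.2 (by
        calc a.1⁻¹ * b.1 * z = a.1⁻¹ * (b.1 * z * b.1⁻¹) * b.1 := by group
          _ = z * (a.1⁻¹ * b.1) := by rw [← h']; group)
    exact Subtype.ext (inv_mul_eq_one.1 (d.inf_cent_eq_one huH
      (Subgroup.mul_mem _ (Subgroup.inv_mem _ a.2) b.2) hc))
  · rintro ⟨s, hs, hsH⟩
    obtain ⟨a, ha, has⟩ := SECount.exists_conj_mem_inf hH hu huH d.ord hzM hs hsH
    exact ⟨⟨a, ha⟩, Subtype.ext has⟩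

theorem inverts {u : G} (hu : orderOf u = 2) (huH : u ∉ nz z) {x : G} (hx : x ∈ twoPt z u) :
    u * x * u⁻¹ = x⁻¹ := by
  have hH := d.stronglyEmbedded
  have key : ∀ i : G, orderOf i = 2 → u⁻¹ * i ∈ nz z → u⁻¹ * i ∈ twoPt z u := by
    intro i hi hiH
    refine mem_twoPt.2 ⟨hiH, ?_⟩
    have h := Subgroup.inv_mem _ hiH
    rw [mul_inv_rev, SECount.invo_inv hi, inv_inv] at h
    rwa [← mul_assoc, SECount.invo_inv hu, SECount.invo_sq hu, one_mul]
  let f : {i : G // orderOf i = 2 ∧ u⁻¹ * i ∈ nz z} → twoPt z u := fun i =>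
    ⟨u⁻¹ * i.1, key i.1 i.2.1 i.2.2⟩
  have hinj : Function.Injective f := fun a b h =>
    Subtype.ext (mul_left_cancel (congrArg Subtype.val h))
  have hsurj := ((Nat.bijective_iff_injective_and_card f).2 ⟨hinj,
    (SECount.card_coset_invo hH huH).trans (d.card_twoPt hu huH).symm⟩).2
  obtain ⟨⟨i, hi, hiH⟩, hid⟩ := hsurj ⟨x, hx⟩
  have hid' : u⁻¹ * i = x := congrArg Subtype.val hid
  rw [← hid', mul_inv_rev, SECount.invo_inv hi, inv_inv, mul_inv_cancel_left, SECount.invo_inv hu]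

theorem twoPt_comm {u : G} (hu : orderOf u = 2) (huH : u ∉ nz z) {x y : G}
    (hx : x ∈ twoPt z u) (hy : y ∈ twoPt z u) : x * y = y * x := by
  have h := d.inverts hu huH (Subgroup.mul_mem _ hx hy)
  have h3 : x⁻¹ * y⁻¹ = (x * y)⁻¹ := by
    rw [← h, ← d.inverts hu huH hx, ← d.inverts hu huH hy]; group
  calc x * y = (y⁻¹ * x⁻¹)⁻¹ := by group
    _ = (x⁻¹ * y⁻¹)⁻¹ := by rw [h3, mul_inv_rev x y]
    _ = y * x := by group

theorem exists_decomp {u : G} (hu : orderOf u = 2) (huH : u ∉ nz z) {h : G} (hh : h ∈ nz z) :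
    ∃ e ∈ twoPt z u, ∃ a ∈ cent z, h = e * a := by
  have hzM : z ∈ nz z := le_normalizer (self_mem_cent z)
  obtain ⟨e, he, het⟩ := SECount.exists_conj_mem_inf d.stronglyEmbedded hu huH d.ord hzM
    ((SECount.orderOf_conj_eq h z).trans d.ord)
    (Subgroup.mul_mem _ (Subgroup.mul_mem _ hh hzM) (Subgroup.inv_mem _ hh))
  refine ⟨e, he, e⁻¹ * h, ?_, (mul_inv_cancel_left e h).symm⟩
  refine mem_centralizer_singleton_iff.2 ?_
  calc e⁻¹ * h * z = e⁻¹ * (h * z * h⁻¹) * h := by group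
    _ = z * (e⁻¹ * h) := by rw [← het]; group

theorem mem_twoPt_of_commute {u : G} (hu : orderOf u = 2) (huH : u ∉ nz z) {x h : G}
    (hx : x ∈ twoPt z u) (hx1 : x ≠ 1) (hh : h ∈ nz z) (hc : h * x = x * h) :
    h ∈ twoPt z u := by
  obtain ⟨e, he, a, ha, rfl⟩ := d.exists_decomp hu huH hh
  by_cases ha1 : a = 1
  · simpa [ha1] using he
  · exfalso
    refine hx1 (d.inf_cent_eq_one huH hx
      (d.mem_cent_of_commute ha ha1 (d.two_not_dvd_twoPt huH hx) ?_))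
    refine mul_left_cancel (a := e) ?_
    rw [← mul_assoc, ← d.twoPt_comm hu huH hx he, mul_assoc, ← hc, mul_assoc]

theorem exists_conj_mem {u : G} (hu : orderOf u = 2) (huH : u ∉ nz z) {h : G}
    (hh : h ∈ nz z) (hhC : h ∉ cent z) :
    ∃ x ∈ cent z, x⁻¹ * h * x ∈ twoPt z u ∧ x⁻¹ * h * x ≠ 1 := by
  obtain ⟨e, he, a, ha, rfl⟩ := d.exists_decomp hu huH hh
  have he1 : e ≠ 1 := fun h1 => hhC (by simpa [h1] using ha)
  have heC : ∀ x ∈ cent z, e⁻¹ * x * e * x⁻¹ ∈ cent z := fun x hx =>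
    Subgroup.mul_mem _ (Subgroup.mem_normalizer_iff''.1 he.1 x |>.1 hx) (Subgroup.inv_mem _ hx)
  let f : ↥(cent z) → ↥(cent z) := fun x => ⟨_, heC x.1 x.2⟩
  have hinj : Function.Injective f := by
    intro x y hxy
    have hxy' : e⁻¹ * x.1 * e * x.1⁻¹ = e⁻¹ * y.1 * e * y.1⁻¹ := congrArg Subtype.val hxy
    have hc : Commute e (y.1⁻¹ * x.1) := by
      show e * (y.1⁻¹ * x.1) = (y.1⁻¹ * x.1) * e
      calc e * (y.1⁻¹ * x.1) = (e * y.1⁻¹ * e⁻¹ * y.1) * (y.1⁻¹ * e * x.1) := by group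
        _ = (y.1⁻¹ * x.1) * e := ?_
      have h2 : x.1⁻¹ * y.1 = e⁻¹ * x.1⁻¹ * y.1 * e := by
        calc x.1⁻¹ * y.1 = (e⁻¹ * x.1⁻¹ * e) * (e⁻¹ * x.1 * e * x.1⁻¹) * y.1 := by group
          _ = (e⁻¹ * x.1⁻¹ * e) * (e⁻¹ * y.1 * e * y.1⁻¹) * y.1 := by rw [hxy']
          _ = e⁻¹ * x.1⁻¹ * y.1 * e := by group
      calc e * y.1⁻¹ * e⁻¹ * y.1 * (y.1⁻¹ * e * x.1) = e * (x.1⁻¹ * y.1)⁻¹ := by group
        _ = y.1⁻¹ * x.1 * e := by rw [h2]; group
    by_contra hne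
    refine he1 (d.inf_cent_eq_one huH he (d.mem_cent_of_commute
      (Subgroup.mul_mem _ (Subgroup.inv_mem _ y.2) x.2)
      (fun h => hne (Subtype.ext (inv_mul_eq_one.1 h).symm)) (d.two_not_dvd_twoPt huH he) hc))
  obtain ⟨x, hx⟩ := Finite.injective_iff_surjective.1 hinj ⟨a, ha⟩
  have hx' : e⁻¹ * x.1 * e * x.1⁻¹ = a := congrArg Subtype.val hx
  have hxe : x.1⁻¹ * (e * a) * x.1 = e := by
    rw [← hx']
    group
  exact ⟨x.1, x.2, by rw [hxe]; exact he, by rw [hxe]; exact he1⟩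

theorem two_le_invo : 2 ≤ Nat.card {t : G // orderOf t = 2 ∧ t ∈ nz z} := by
  classical
  by_contra h
  refine not_isolated d.hyp d.noNil (z := z) ⟨d.ord, fun g hg => ?_⟩
  have hsub : Subsingleton {t : G // orderOf t = 2 ∧ t ∈ nz z} := by
    rw [← not_nontrivial_iff_subsingleton, ← Finite.one_lt_card_iff_nontrivial]
    omega
  exact congrArg Subtype.val (hsub.elim
    ⟨g * z * g⁻¹, (SECount.orderOf_conj_eq _ _).trans d.ord,
      le_normalizer (mem_cent.2 hg.symm)⟩ ⟨z, d.ord, le_normalizer (self_mem_cent z)⟩)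

theorem exists_twoPt_ne_one {u : G} (hu : orderOf u = 2) (huH : u ∉ nz z) :
    ∃ x ∈ twoPt z u, x ≠ 1 := by
  by_contra hh
  push Not at hh
  have h1 : twoPt z u = ⊥ := (Subgroup.eq_bot_iff_forall _).2 hh
  have h2 := d.card_twoPt hu huH
  rw [h1, Subgroup.card_bot] at h2
  have := d.two_le_invo
  omega

theorem exists_conj_twoPt {u v : G} (hu : orderOf u = 2) (huH : u ∉ nz z) (hv : orderOf v = 2)
    (hvH : v ∉ nz z) :
    ∃ x ∈ cent z, ∀ a ∈ twoPt z u, x * a * x⁻¹ ∈ twoPt z v := by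
  obtain ⟨e, he, he1⟩ := d.exists_twoPt_ne_one hv hvH
  obtain ⟨x, hx, hxe, -⟩ := d.exists_conj_mem hu huH he.1
    (fun h => he1 (d.inf_cent_eq_one hvH he h))
  refine ⟨x, hx, fun a ha => d.mem_twoPt_of_commute hv hvH he he1 ?_ ?_⟩
  · exact Subgroup.mul_mem _ (Subgroup.mul_mem _ (Subgroup.le_normalizer hx) ha.1)
      (Subgroup.inv_mem _ (Subgroup.le_normalizer hx))
  · calc x * a * x⁻¹ * e = x * (a * (x⁻¹ * e * x)) * x⁻¹ := by group
      _ = x * ((x⁻¹ * e * x) * a) * x⁻¹ := by rw [d.twoPt_comm hu huH ha hxe]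
      _ = e * (x * a * x⁻¹) := by group

theorem exists_invo_coset {g : G} (hg : g ∉ nz z) :
    ∃ i : G, orderOf i = 2 ∧ g⁻¹ * i ∈ nz z ∧ i ∉ nz z := by
  have h : Nat.card {i : G // orderOf i = 2 ∧ g⁻¹ * i ∈ nz z} ≠ 0 := by
    rw [SECount.card_coset_invo d.stronglyEmbedded hg]
    have := d.two_le_invo
    omega
  obtain ⟨⟨i, hi, hiH⟩⟩ := (Nat.card_ne_zero.1 h).1
  exact ⟨i, hi, hiH, fun h' => hg (by
    simpa using Subgroup.mul_mem _ h' (Subgroup.inv_mem _ hiH))⟩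

theorem mem_twoPt_of_normalizes {u n : G} (hu : orderOf u = 2) (huH : u ∉ nz z)
    (hn : n ∈ Subgroup.normalizer (twoPt z u : Set G)) (hnH : n ∈ nz z) : n ∈ twoPt z u := by
  obtain ⟨x, hx, hx1⟩ := d.exists_twoPt_ne_one hu huH
  obtain ⟨e, he, a, ha, rfl⟩ := d.exists_decomp hu huH hnH
  have han : a ∈ Subgroup.normalizer (twoPt z u : Set G) := by
    simpa using Subgroup.mul_mem _ (Subgroup.inv_mem _ (Subgroup.le_normalizer he)) hn
  have h1 : a * x * a⁻¹ * x⁻¹ = 1 := by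
    refine d.inf_cent_eq_one huH
      (Subgroup.mul_mem _ ((Subgroup.mem_normalizer_iff.1 han x).1 hx) (Subgroup.inv_mem _ hx)) ?_
    rw [show a * x * a⁻¹ * x⁻¹ = a * (x * a⁻¹ * x⁻¹) by group]
    exact Subgroup.mul_mem _ ha ((Subgroup.mem_normalizer_iff.1 hx.1 a⁻¹).1 (Subgroup.inv_mem _ ha))
  exact Subgroup.mul_mem _ he (d.mem_twoPt_of_commute hu huH hx hx1
    (Subgroup.le_normalizer ha) (by simpa [mul_inv_eq_one, mul_inv_eq_iff_eq_mul] using h1))

end Data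

end Cfsg.Agent.Lib.TICentralisers
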