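import Mathlib
import Cfsg.Agent.Lib.TICentralisers.TwoPoint
import Cfsg.Prelude.Def_LieExceptional
import Cfsg.Agent.Lib.Zassenhaus.OddDegree

/-!
The action on the cosets of `M`: a simple Zassenhaus group of degree `|C| + 1`.
-/

set_option autoImplicit false
set_option linter.unusedSectionVars false

namespace Cfsg.Agent.Lib.TICentralisers

open Subgroup

universe u

variable {G : Type u} [Group G] [Finite G]

namespace Data

variable {S : Sylow 2 G} {z : G} (d₀ : Data S z)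
include d₀

/-- The cosets fixed by `D` are `M` and `uM`. -/
theorem eq_of_fixed {u g : G} (hu : orderOf u = 2) (huH : u ∉ nz z)
    (hg : g ∉ nz z) (hfix : ∀ d ∈ twoPt z u, g⁻¹ * d * g ∈ nz z) :
    u⁻¹ * g ∈ nz z := by
  by_contra hne
  obtain ⟨i, hi, hgi, hiH⟩ := d₀.exists_invo_coset hg
  have hDD : ∀ d, d ∈ twoPt z u ↔ d ∈ twoPt z i := by
    have hle : twoPt z u ≤ twoPt z i := fun d hd =>
      (mem_twoPt_congr hgi).2 ⟨hd.1, hfix d hd⟩
    have heq := Subgroup.eq_of_le_of_card_ge hle (by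
      rw [d₀.card_twoPt hu huH, d₀.card_twoPt hi hiH])
    intro d; rw [heq]
  have huN : ∀ d ∈ twoPt z u, u * d * u⁻¹ = d⁻¹ :=
    fun d hd => d₀.inverts hu huH hd
  have hiN : ∀ d ∈ twoPt z u, i * d * i⁻¹ = d⁻¹ :=
    fun d hd => d₀.inverts hi hiH ((hDD d).1 hd)
  -- the point `i u H` is fixed by `D` as well
  have huiH : u⁻¹ * i ∉ nz z := fun h => hne (by
    simpa [mul_assoc] using Subgroup.mul_mem _ h (Subgroup.inv_mem _ hgi))
  have hprodcomm : ∀ d ∈ twoPt z u, (i * u) * d * (i * u)⁻¹ = d := by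
    intro d hd
    calc (i * u) * d * (i * u)⁻¹ = i * (u * d * u⁻¹) * i⁻¹ := by group
      _ = d := by rw [huN d hd, hiN _ (Subgroup.inv_mem _ hd), inv_inv]
  have hiuH : i * u ∉ nz z := by
    intro h
    apply huiH
    have h' := Subgroup.inv_mem _ h
    rwa [mul_inv_rev, SECount.invo_inv hi] at h'
  obtain ⟨j, hj, hgj, hjH⟩ := d₀.exists_invo_coset hiuH
  have hcard : Nat.card {x : G // orderOf x = 2 ∧ (i * u)⁻¹ * x ∈ nz z} =
      Nat.card (twoPt z u) :=
    (SECount.card_coset_invo d₀.stronglyEmbedded hiuH).trans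
      (d₀.card_twoPt hu huH).symm
  have hmem : ∀ x : G, orderOf x = 2 → (i * u)⁻¹ * x ∈ nz z →
      (i * u)⁻¹ * x ∈ twoPt z u ∧ ∀ d ∈ twoPt z u, x * d * x⁻¹ = d⁻¹ := by
    intro x hx hxH
    have hxH' : x ∉ nz z := fun h => hiuH (by
      simpa using Subgroup.mul_mem _ h (Subgroup.inv_mem _ hxH))
    have hle : twoPt z u ≤ twoPt z x := fun d hd =>
      (mem_twoPt_congr hxH).2 ⟨hd.1, by
        rw [show (i * u)⁻¹ * d * (i * u) = d from by
          conv_lhs => rw [← hprodcomm d hd]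
          group]
        exact hd.1⟩
    have heq := Subgroup.eq_of_le_of_card_ge hle (by
      rw [d₀.card_twoPt hu huH, d₀.card_twoPt hx hxH'])
    have hinvx : ∀ d ∈ twoPt z u, x * d * x⁻¹ = d⁻¹ := fun d hd =>
      d₀.inverts hx hxH' (heq ▸ hd)
    refine ⟨d₀.mem_twoPt_of_normalizes hu huH ?_ hxH, hinvx⟩
    rw [Subgroup.mem_normalizer_iff]
    have hconj : ∀ d ∈ twoPt z u, ((i * u)⁻¹ * x) * d * ((i * u)⁻¹ * x)⁻¹ = d⁻¹ := by
      intro d hd
      calc ((i * u)⁻¹ * x) * d * ((i * u)⁻¹ * x)⁻¹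
          = (i * u)⁻¹ * (x * d * x⁻¹) * (i * u) := by group
        _ = d⁻¹ := by
          rw [hinvx d hd]
          conv_lhs => rw [← hprodcomm _ (Subgroup.inv_mem _ hd)]
          group
    intro d
    refine ⟨fun hd => by rw [hconj d hd]; exact Subgroup.inv_mem _ hd, fun hd => ?_⟩
    have := hconj _ hd
    generalize ((i * u)⁻¹ * x) = y at this hd
    have e : d = (y * d * y⁻¹)⁻¹ := by
      calc d = y⁻¹ * (y * d * y⁻¹) * y := by group
        _ = y⁻¹ * (y * (y * d * y⁻¹) * y⁻¹)⁻¹ * y := by rw [this, inv_inv]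
        _ = (y * d * y⁻¹)⁻¹ := by group
    rw [e]; exact Subgroup.inv_mem _ hd
  let f : {x : G // orderOf x = 2 ∧ (i * u)⁻¹ * x ∈ nz z} → twoPt z u := fun x =>
    ⟨_, (hmem x.1 x.2.1 x.2.2).1⟩
  obtain ⟨⟨x, hx, hxH⟩, hx1⟩ := ((Nat.bijective_iff_injective_and_card f).2
    ⟨fun a b h => Subtype.ext (mul_left_cancel (congrArg Subtype.val h)), hcard⟩).2 1
  have hxe : x = i * u := (inv_mul_eq_one.1 (congrArg Subtype.val hx1 :)).symm
  obtain ⟨d, hd, hd1⟩ := d₀.exists_twoPt_ne_one hu huH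
  have hsq : d = d⁻¹ := by
    rw [← (hmem x hx hxH).2 d hd, hxe, hprodcomm d hd]
  have h2 : orderOf d = 2 := SECount.invo_of_sq hd1 (by
    nth_rewrite 2 [hsq]; exact mul_inv_cancel d)
  exact hd1 (d₀.inf_cent_eq_one huH hd (d₀.invo_mem h2 hd.1))

theorem exists_mul_coset {u g : G} (hu : orderOf u = 2) (huH : u ∉ nz z) (hg : g ∉ nz z) :
    ∃ x ∈ cent z, (x * u)⁻¹ * g ∈ nz z := by
  obtain ⟨i, hi, hgi, hiH⟩ := d₀.exists_invo_coset hg
  obtain ⟨x, hx, hxD⟩ := d₀.exists_conj_twoPt hu huH hi hiH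
  refine ⟨x, hx, ?_⟩
  have hxg : x⁻¹ * g ∉ nz z := fun h => hg (by
    have h' : x * (x⁻¹ * g) ∈ nz z := Subgroup.mul_mem _ (Subgroup.le_normalizer hx) h
    rwa [mul_inv_cancel_left] at h')
  have := d₀.eq_of_fixed hu huH hxg fun a ha => by
    rw [show (x⁻¹ * g)⁻¹ * a * (x⁻¹ * g) = g⁻¹ * (x * a * x⁻¹) * g by group]
    exact ((mem_twoPt_congr hgi).1 (hxD a ha)).2
  rwa [mul_inv_rev, mul_assoc]

theorem eq_of_mul_coset {u x y : G} (huH : u ∉ nz z) (hx : x ∈ cent z) (hy : y ∈ cent z)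
    (h : (x * u)⁻¹ * (y * u) ∈ nz z) : x = y := by
  have hxy := Subgroup.mul_mem _ (Subgroup.inv_mem _ hx) hy
  refine inv_mul_eq_one.1 (d₀.inf_cent_eq_one huH
    (mem_twoPt.2 ⟨Subgroup.le_normalizer hxy, ?_⟩) hxy)
  simpa [mul_assoc] using h

theorem coe_ne_one {u : G} (hu : u ∉ nz z) : (u : G ⧸ nz z) ≠ ((1 : G) : G ⧸ nz z) := fun h => hu (by
  simpa using inv_mem (QuotientGroup.eq.1 h))

/-- The stabiliser of the base point is `M`. -/
theorem smul_base {g : G} : g • ((1 : G) : G ⧸ nz z) = ((1 : G) : G ⧸ nz z) ↔ g ∈ nz z := by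
  rw [MulAction.Quotient.smul_mk, smul_eq_mul, mul_one, QuotientGroup.eq, mul_one, inv_mem_iff]

theorem point_eq {u : G} (hu : orderOf u = 2) (huH : u ∉ nz z) {q : G ⧸ nz z}
    (hq : q ≠ ((1 : G) : G ⧸ nz z)) : ∃ x ∈ cent z, x • (u : G ⧸ nz z) = q := by
  obtain ⟨g, rfl⟩ := QuotientGroup.mk_surjective q
  obtain ⟨x, hx, hxg⟩ := d₀.exists_mul_coset hu huH (g := g) (fun h => hq (QuotientGroup.eq.2 (by
    simpa using inv_mem h)))
  exact ⟨x, hx, by rw [MulAction.Quotient.smul_mk, smul_eq_mul, QuotientGroup.eq]; exact hxg⟩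

theorem point_inj {u : G} (huH : u ∉ nz z) {x y : G} (hx : x ∈ cent z) (hy : y ∈ cent z)
    (h : x • (u : G ⧸ nz z) = y • (u : G ⧸ nz z)) : x = y := by
  rw [MulAction.Quotient.smul_mk, MulAction.Quotient.smul_mk, smul_eq_mul, smul_eq_mul,
    QuotientGroup.eq] at h
  exact d₀.eq_of_mul_coset huH hx hy h

theorem card_points : Nat.card (G ⧸ nz z) = Nat.card (cent z) + 1 := by
  classical
  obtain ⟨u, hu, huH⟩ := d₀.exists_invo
  let f : Option (cent z) → G ⧸ nz z := fun o =>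
    o.elim ((1 : G) : G ⧸ nz z) fun x => (x : G) • (u : G ⧸ nz z)
  have hne : ∀ x : cent z, (x : G) • (u : G ⧸ nz z) ≠ ((1 : G) : G ⧸ nz z) := fun x h => by
    refine d₀.coe_ne_one huH (smul_left_cancel (x : G) (h.trans ?_))
    exact (smul_base d₀ |>.2 (le_normalizer x.2)).symm
  have hf : Function.Bijective f := by
    refine ⟨?_, fun q => ?_⟩
    · rintro (_ | x) (_ | y) h
      · rfl
      · exact absurd h.symm (hne y)
      · exact absurd h (hne x)
      · exact congrArg some (Subtype.ext (d₀.point_inj huH x.2 y.2 h))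
    · by_cases hq : q = ((1 : G) : G ⧸ nz z)
      · exact ⟨none, hq.symm⟩
      · obtain ⟨x, hx, hxq⟩ := d₀.point_eq hu huH hq
        exact ⟨some ⟨x, hx⟩, hxq⟩
  rw [← Nat.card_congr (Equiv.ofBijective f hf), Finite.card_option]

theorem even_cent : Even (Nat.card (cent z)) :=
  even_iff_two_dvd.2 (d₀.ord ▸ Subgroup.orderOf_dvd_natCard _ (self_mem_cent z))

/-- The action on the cosets of `M` is a Zassenhaus group. -/
theorem isZassenhaus : Cfsg.IsZassenhausGroup G (G ⧸ nz z) := by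
  classical
  obtain ⟨u, hu, huH⟩ := d₀.exists_invo
  set o : G ⧸ nz z := ((1 : G) : G ⧸ nz z) with ho
  have hup : u • o = (u : G ⧸ nz z) := by
    rw [ho, MulAction.Quotient.smul_mk, smul_eq_mul, mul_one]
  have hbase : ∀ a b : G ⧸ nz z, a ≠ b → ∃ g : G, g • o = a ∧ g • (u : G ⧸ nz z) = b := by
    intro a b hab
    obtain ⟨g, hg⟩ := MulAction.exists_smul_eq G o a
    have hb : g⁻¹ • b ≠ o := fun h => hab (by rw [← hg, ← h, smul_inv_smul])
    obtain ⟨x, hx, hxb⟩ := d₀.point_eq hu huH hb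
    refine ⟨g * x, ?_, ?_⟩
    · rw [mul_smul, (smul_base d₀).2 (le_normalizer hx), hg]
    · rw [mul_smul, hxb, smul_inv_smul]
  have hthree : ∀ g : G, ∀ q : G ⧸ nz z, q ≠ o → q ≠ (u : G ⧸ nz z) → g • o = o →
      g • (u : G ⧸ nz z) = u → g • q = q → g = 1 := by
    intro g q hqo hqu hgo hgu hgq
    obtain ⟨x, hx, rfl⟩ := d₀.point_eq hu huH hqo
    have hgM : g ∈ nz z := (smul_base d₀).1 hgo
    have hgD : g ∈ twoPt z u := mem_twoPt.2 ⟨hgM, by
      rw [MulAction.Quotient.smul_mk, smul_eq_mul, QuotientGroup.eq] at hgu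
      simpa [mul_assoc] using inv_mem hgu⟩
    have hgx : g * x * g⁻¹ = x := by
      refine d₀.point_inj huH ((mem_normalizer_iff.1 hgM x).1 hx) hx ?_
      have h1 : g⁻¹ • (u : G ⧸ nz z) = u := by rw [inv_smul_eq_iff, hgu]
      rw [mul_smul, mul_smul, h1, hgq]
    by_contra hg1
    have hx1 : x ≠ 1 := fun e => hqu (by rw [e, one_smul])
    exact hg1 (d₀.inf_cent_eq_one huH hgD (d₀.mem_cent_of_commute hx hx1
      (d₀.two_not_dvd_twoPt huH hgD) (mul_inv_eq_iff_eq_mul.1 hgx)))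
  refine ⟨⟨fun {a b} h => ?_⟩, ?_, ?_, ?_, ?_⟩
  · have hab : ∀ q : G ⧸ nz z, (a⁻¹ * b) • q = q := fun q => by
      rw [mul_smul, ← h q, inv_smul_smul]
    have hz : z • (u : G ⧸ nz z) ≠ u := fun e => d₀.ne_one
      (d₀.point_inj huH (self_mem_cent z) (one_mem _) (by rw [e, one_smul]))
    have hzo : z • (u : G ⧸ nz z) ≠ o := fun e => d₀.coe_ne_one huH
      (smul_left_cancel z (e.trans ((smul_base d₀).2 (le_normalizer (self_mem_cent z))).symm))
    exact inv_mul_eq_one.1 (hthree _ _ hzo hz (hab _) (hab _) (hab _))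
  · rw [MulAction.is_two_pretransitive_iff]
    intro a b c e hab hce
    obtain ⟨g, hg1, hg2⟩ := hbase a b hab
    obtain ⟨g', hg1', hg2'⟩ := hbase c e hce
    exact ⟨g' * g⁻¹, by rw [mul_smul, ← hg1, inv_smul_smul, hg1'],
      by rw [mul_smul, ← hg2, inv_smul_smul, hg2']⟩
  · intro g a b c hab hbc hac hga hgb hgc
    obtain ⟨k, hka, hkb⟩ := hbase a b hab
    have h := hthree (k⁻¹ * g * k) (k⁻¹ • c) (fun e => hac (by rw [← hka, ← e, smul_inv_smul]))
      (fun e => hbc (by rw [← hkb, ← e, smul_inv_smul]))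
      (by rw [mul_smul, mul_smul, hka, hga, ← hka, inv_smul_smul])
      (by rw [mul_smul, mul_smul, hkb, hgb, ← hkb, inv_smul_smul])
      (by rw [mul_smul, mul_smul, smul_inv_smul, hgc])
    calc g = k * (k⁻¹ * g * k) * k⁻¹ := by group
      _ = 1 := by rw [h]; group
  · obtain ⟨x, hx, hx1⟩ := d₀.exists_twoPt_ne_one hu huH
    refine ⟨x, hx1, o, (u : G ⧸ nz z), (d₀.coe_ne_one huH).symm, (smul_base d₀).2 hx.1, ?_⟩
    rw [MulAction.Quotient.smul_mk, smul_eq_mul, QuotientGroup.eq]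
    have := inv_mem (mem_twoPt.1 hx).2
    simpa [mul_assoc] using this
  · intro N hN htr
    by_contra hreg
    push Not at hreg
    have hcard : Nat.card N = Nat.card (G ⧸ nz z) := by
      refine Nat.card_eq_of_bijective (fun n : N => n • o) ⟨fun a b h => ?_, fun q => htr.exists_smul_eq o q⟩
      have hs : a⁻¹ * b ∈ MulAction.stabilizer N o := by
        show (a⁻¹ * b) • o = o
        rw [mul_smul, ← show a • o = b • o from h, inv_smul_smul]
      exact inv_mul_eq_one.1 ((Subgroup.eq_bot_iff_forall _).1 (hreg o) _ hs)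
    have hbot : N = ⊥ := odd_normal_eq_bot d₀.hyp d₀.noNil N hN (by
      rw [hcard, d₀.card_points]
      exact d₀.even_cent.add_one)
    rw [hbot, card_bot, d₀.card_points] at hcard
    have := Nat.card_pos (α := cent z)
    omega

theorem isSimple : IsSimpleGroup G := by
  haveI := Fintype.ofFinite (G ⧸ nz z)
  refine Zassenhaus.isSimpleGroup_of_odd d₀.isZassenhaus ?_
  rw [← Nat.card_eq_fintype_card, d₀.card_points]
  exact d₀.even_cent.add_one

theorem card_group {u : G} (hu : orderOf u = 2) (huH : u ∉ nz z) :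
    Nat.card G = (Nat.card (cent z) + 1) * (Nat.card (twoPt z u) * Nat.card (cent z)) := by
  rw [← d₀.card_points, ← Subgroup.index_eq_card, ← (nz z).card_mul_index, mul_comm]
  congr 1
  symm
  rw [← Nat.card_prod]
  let m : ↥(twoPt z u) × ↥(cent z) → ↥(nz z) := fun x =>
    ⟨x.1 * x.2, mul_mem x.1.2.1 (le_normalizer x.2.2)⟩
  refine Nat.card_eq_of_bijective m ⟨?_, fun h => ?_⟩
  · rintro ⟨e, a⟩ ⟨e', a'⟩ h
    have h' : (e : G) * a = (e' : G) * a' := congrArg Subtype.val h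
    have he : (e' : G)⁻¹ * e = a' * (a : G)⁻¹ := by
      calc (e' : G)⁻¹ * e = (e' : G)⁻¹ * ((e : G) * a) * (a : G)⁻¹ := by group
        _ = a' * (a : G)⁻¹ := by rw [h']; group
    have h1 := d₀.inf_cent_eq_one huH (mul_mem (inv_mem e'.2) e.2)
      (he ▸ mul_mem a'.2 (inv_mem a.2))
    have hee : e = e' := Subtype.ext (inv_mul_eq_one.1 h1).symm
    subst hee
    exact Prod.ext rfl (Subtype.ext (mul_left_cancel h'))
  · obtain ⟨e, he, a, ha, hh⟩ := d₀.exists_decomp hu huH h.2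
    exact ⟨(⟨e, he⟩, ⟨a, ha⟩), Subtype.ext hh.symm⟩

end Data

end Cfsg.Agent.Lib.TICentralisers
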