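import Mathlib
import Cfsg.Agent.Lib.TICentralisers.Frobenius

/-!
The complement: a nilpotent group in which conjugates of every element commute, with cyclic or
quaternion Sylow subgroups, is cyclic or cyclic of odd order times the quaternion group of order 8.
-/

set_option autoImplicit false

namespace Cfsg.Agent.Lib.TICentralisers

open Subgroup

theorem quaternion_small {n : ℕ}
    (h : ∀ x g : QuaternionGroup (2 ^ n), Commute (g * x * g⁻¹) x) : n ≤ 1 := by
  by_contra hn
  have hx := h (.xa 0) (.a 1)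
  have e1 : (QuaternionGroup.a 1 : QuaternionGroup (2 ^ n)) * .xa 0 = .xa (-1) := by
    rw [QuaternionGroup.a_mul_xa, zero_sub]
  have e2 : (QuaternionGroup.a 1 : QuaternionGroup (2 ^ n)) * .xa 0 * (.a 1)⁻¹ = .xa (-2) := by
    rw [e1, show (QuaternionGroup.a 1 : QuaternionGroup (2 ^ n))⁻¹ = .a (-1) from
      inv_eq_of_mul_eq_one_right (by rw [QuaternionGroup.a_mul_a, add_neg_cancel]; rfl),
      QuaternionGroup.xa_mul_a]
    congr 1
    ring
  rw [e2] at hx
  have h2 := hx.eq
  rw [QuaternionGroup.xa_mul_xa, QuaternionGroup.xa_mul_xa] at h2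
  injection h2 with h3
  have h4 : ((4 : ℕ) : ZMod (2 * 2 ^ n)) = 0 := by
    push_cast
    linear_combination h3
  have h5 := Nat.le_of_dvd (by norm_num) ((ZMod.natCast_eq_zero_iff _ _).1 h4)
  have h6 : 2 ^ 2 ≤ 2 ^ n := Nat.pow_le_pow_right (by norm_num) (by omega)
  omega

theorem shape {H : Type*} [Group H] [Finite H] (hn : Group.IsNilpotent H)
    (hc : ∀ x g : H, Commute (g * x * g⁻¹) x)
    (hS : ∀ (p : ℕ) [Fact p.Prime] (P : Sylow p H),
      IsCyclic P ∨ (p = 2 ∧ ∃ n : ℕ, Nonempty (P ≃* QuaternionGroup (2 ^ n)))) :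
    IsCyclic H ∨ ∃ m : ℕ, Odd m ∧ Nonempty (H ≃* Multiplicative (ZMod m) × QuaternionGroup 2) := by
  classical
  haveI := hn
  haveI : Fact (Nat.Prime 2) := ⟨Nat.prime_two⟩
  obtain ⟨P⟩ : Nonempty (Sylow 2 H) := inferInstance
  by_cases hP : IsCyclic P
  · left
    haveI : IsZGroup H := ⟨fun p hp Q => by
      haveI := Fact.mk hp
      rcases hS p Q with h | ⟨rfl, -⟩
      · exact h
      · haveI : (P : Subgroup H).Normal := inferInstance
        haveI := Sylow.unique_of_normal P ‹_›
        exact (Subsingleton.elim P Q) ▸ hP⟩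
    infer_instance
  obtain ⟨-, n, ⟨e⟩⟩ := (hS 2 P).resolve_left hP
  have hn1 : n ≤ 1 := quaternion_small fun x g => by
    have h := hc (e.symm x : H) (e.symm g : H)
    have h' : Commute (e.symm g * e.symm x * (e.symm g)⁻¹) (e.symm x) := Subtype.ext h
    have := h'.map e.toMonoidHom
    simpa using this
  have hn0 : n = 1 := by
    by_contra hne
    obtain rfl : n = 0 := by omega
    haveI : IsCyclic (QuaternionGroup (2 ^ 0)) := isCyclic_of_orderOf_eq_card (.xa 0) (by
      rw [QuaternionGroup.orderOf_xa, Nat.card_eq_fintype_card, QuaternionGroup.card]; norm_num)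
    exact hP (isCyclic_of_surjective e.symm e.symm.surjective)
  subst hn0
  haveI hPn : (P : Subgroup H).Normal := inferInstance
  have hco : (Nat.card (P : Subgroup H)).Coprime (P : Subgroup H).index := P.card_coprime_index
  obtain ⟨M, hM⟩ := exists_right_complement'_of_coprime hco
  have hMi : Nat.card M = (P : Subgroup H).index := hM.symm.index_eq_card.symm
  have hMc : IsCyclic M := by
    haveI : IsZGroup M := ⟨fun p hp Q => by
      haveI := Fact.mk hp
      have hQM : ((Q : Subgroup M).map M.subtype) ≤ M := map_subtype_le _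
      obtain ⟨R, hR⟩ := (Q.2.map M.subtype).exists_le_sylow
      rcases hS p R with h | ⟨rfl, -⟩
      · exact isCyclic_of_injective
          ((Subgroup.inclusion hR).comp ((Q : Subgroup M).equivMapOfInjective M.subtype
            M.subtype_injective).toMonoidHom)
          ((Subgroup.inclusion_injective hR).comp (MulEquiv.injective _))
      · have h1 : Nat.card (Q : Subgroup M) = 1 := by
          obtain ⟨j, hj⟩ := IsPGroup.iff_card.1 Q.2
          rcases Nat.eq_zero_or_pos j with rfl | hj0
          · simpa using hj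
          · exfalso
            refine P.not_dvd_index ?_
            rw [← hMi]
            exact (hj ▸ dvd_pow_self 2 hj0.ne').trans (card_subgroup_dvd_card _)
        exact @isCyclic_of_subsingleton _ _ (Nat.card_eq_one_iff_unique.1 h1).1⟩
    haveI : Group.IsNilpotent M := inferInstance
    infer_instance
  have hcomm : ∀ a ∈ (P : Subgroup H), ∀ b ∈ M, Commute a b := fun a ha b hb =>
    NilpotentPerm.commute_of_coprime_orderOf hn
      ((hco.coprime_dvd_left (Subgroup.orderOf_dvd_natCard _ ha)).coprime_dvd_right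
        (hMi ▸ Subgroup.orderOf_dvd_natCard _ hb))
  let f : ↥(P : Subgroup H) × ↥M →* H :=
    (P : Subgroup H).subtype.noncommCoprod M.subtype fun a b => hcomm a a.2 b b.2
  have hf : Function.Bijective f := by
    show Function.Bijective fun x : ↥(P : Subgroup H) × ↥M => (x.1 : H) * x.2
    exact hM
  refine Or.inr ⟨Nat.card M, ?_, ⟨(MulEquiv.ofBijective f hf).symm.trans
    ((e.prodCongr (zmodCyclicMulEquiv hMc).symm).trans MulEquiv.prodComm)⟩⟩
  rw [hMi, Nat.odd_iff]
  have := P.not_dvd_index
  omega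

/-- The Frobenius alternative. -/
theorem frobenius_of_normal_nilpotent {G : Type*} [Group G] [Finite G] (hG : Hyp G)
    {A : Subgroup G} (hA : A.Normal) (hAn : Group.IsNilpotent A) (hA1 : A ≠ ⊥) :
    Group.IsNilpotent G ∨ ∃ H : Subgroup G, Cfsg.IsFrobeniusComplement H ∧
      (IsCyclic H ∨ ∃ m : ℕ, Odd m ∧ Nonempty (H ≃* Multiplicative (ZMod m) × QuaternionGroup 2)) := by
  obtain ⟨F, hFN, hFn, hF1, hmax⟩ := exists_kernel hG hA hAn hA1
  haveI := hFN
  obtain ⟨H, hH⟩ := exists_right_complement'_of_coprime (coprime_index hG hFn hmax)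
  by_cases hH1 : H = ⊥
  · subst hH1
    exact Or.inl (CNTheorem.isNilpotent_of_eq_top (Subgroup.isComplement'_bot_right.1 hH) hFn)
  have hfpf : ∀ h ∈ H, h ≠ 1 → F ⊓ Subgroup.centralizer {h} = ⊥ := by
    intro h hh h1
    refine (Subgroup.eq_bot_iff_forall _).2 fun x hx => by_contra fun hx1 => h1 ?_
    have hhF : h ∈ F := cent_le_kernel hG hFn hmax hx.1 hx1 (mem_cent.2 (mem_cent.1 hx.2).symm)
    exact Subgroup.mem_bot.1 (disjoint_iff.1 hH.disjoint ▸ ⟨hhF, hh⟩)
  have hHH := hyp_subgroup hG H
  have hnil : Group.IsNilpotent H :=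
    isNilpotent_of_center hHH (Frobenius.center_ne_bot hH hF1 hH1 hfpf)
  refine Or.inr ⟨H, Frobenius.isFrobeniusComplement_of_fpf hH hF1 hH1 hfpf, ?_⟩
  obtain ⟨z, hz, hz1⟩ := (center H).bot_or_exists_ne_one.resolve_left
    (Frobenius.center_ne_bot hH hF1 hH1 hfpf)
  refine shape hnil (fun x g => ?_) (fun p _ P => Frobenius.sylow_cyclic_or_quaternion hH hF1 hfpf p P)
  have hxz : z ∈ cent x := mem_cent.2 (mem_center_iff.1 hz x).symm
  have hg : g ∈ nz x := cent_le_nz hHH hxz hz1 (mem_cent.2 (mem_center_iff.1 hz g))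
  exact mem_cent.1 ((mem_normalizer_iff.1 hg _).1 (self_mem_cent x))

end Cfsg.Agent.Lib.TICentralisers
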