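import Mathlib
import Cfsg.Agent.Lib.TICentralisers.Points
import Cfsg.Agent.Lib.TICentralisers.Shape
import Cfsg.Agent.Lib.AbelianInvCentralizer.Classify
import Cfsg.Agent.Lib.SelfNormalizing.SLTwo
import Cfsg.Agent.S0346
import Cfsg.Agent.S0347

/-!
Groups with TI element centralisers: the simple case.  The Suzuki order is impossible, as the
Sylow 2-subgroup would then be abelian.
-/

set_option autoImplicit false
set_option linter.unusedSectionVars false

namespace Cfsg.Agent.Lib.TICentralisers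

open Subgroup

universe u

variable {G : Type u} [Group G] [Finite G]

theorem dvd_two_pow_sub_one {n i : ℕ} (hn : 2 ≤ n) (hni : n < i) (hi : i ≤ 2 * n)
    (h : 2 ^ n - 1 ∣ 2 ^ i - 1) : i = 2 * n := by
  obtain ⟨j, rfl⟩ : ∃ j, i = n + j := ⟨i - n, by omega⟩
  have hj : j ≤ n := by omega
  have e : 2 ^ (n + j) - 1 = 2 ^ j * (2 ^ n - 1) + (2 ^ j - 1) := by
    have h1 : 1 ≤ 2 ^ n := Nat.one_le_two_pow
    have h2 : 1 ≤ 2 ^ j := Nat.one_le_two_pow
    rw [Nat.mul_sub, mul_one, ← pow_add, add_comm j n]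
    have h3 : 2 ^ j ≤ 2 ^ (n + j) := Nat.pow_le_pow_right (by norm_num) (by omega)
    omega
  rw [e, Nat.dvd_add_right (dvd_mul_left _ _)] at h
  have h2 : 2 ^ 1 ≤ 2 ^ j := Nat.pow_le_pow_right (by norm_num) (by omega)
  have h3 := Nat.le_of_dvd (by omega) h
  have h4 : 2 ^ n ≤ 2 ^ j := by omega
  have := (Nat.pow_le_pow_iff_right (by norm_num : 1 < 2)).1 h4
  omega

namespace Data

variable {S : Sylow 2 G} {z : G} (d : Data S z)
include d

theorem invo_central {t : G} (ht : orderOf t = 2) (htM : t ∈ nz z) {x : G} (hx : x ∈ cent z) :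
    Commute x t := mem_cent.1 ((d.cent_invo ht htM).symm ▸ hx)

/-- If `C` is a 2-group of order `q²` and `D` has order `q - 1` then `C` is abelian. -/
theorem comm_of_suzuki_order {n : ℕ} (hn : 2 ≤ n) (hC : Nat.card (cent z) = (2 ^ n) ^ 2) {u : G}
    (hu : orderOf u = 2) (huH : u ∉ nz z) (hD : Nat.card (twoPt z u) = 2 ^ n - 1) {x y : G}
    (hx : x ∈ cent z) (hy : y ∈ cent z) : x * y = y * x := by
  classical
  haveI : Fact (Nat.Prime 2) := ⟨Nat.prime_two⟩
  by_cases hx1 : x = 1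
  · rw [hx1, one_mul, mul_one]
  by_cases hx2 : orderOf x = 2
  · exact ((d.invo_central hx2 (le_normalizer hx) hy).eq).symm
  suffices hX : cent z ⊓ cent x = cent z by
    have h : y ∈ cent z ⊓ cent x := hX.symm ▸ hy
    exact (mem_cent.1 h.2).eq.symm
  set X : Subgroup G := cent z ⊓ cent x with hXdef
  have hXn : ∀ e ∈ twoPt z u, ∀ a ∈ X, e * a * e⁻¹ ∈ X := by
    intro e he a ha
    have hz : z ∈ cent x := mem_cent.2 (mem_cent.1 hx).symm
    have hzM : z ∈ nz z := le_normalizer (self_mem_cent z)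
    have hez : e * z * e⁻¹ ∈ cent x := mem_cent.2 (d.invo_central
      ((SECount.orderOf_conj_eq e z).trans d.ord) (mul_mem (mul_mem he.1 hzM) (inv_mem he.1)) hx).symm
    have hen : e ∈ nz x := mem_nz_of_conj d.hyp hz hez d.ne_one
    exact ⟨(mem_normalizer_iff.1 he.1 a).1 ha.1, (mem_normalizer_iff.1 hen a).1 ha.2⟩
  let α := {a : G // a ∈ X ∧ a ≠ 1}
  letI : MulAction (twoPt z u) α :=
    { smul := fun e a => ⟨(e : G) * a.1 * (e : G)⁻¹, hXn _ e.2 _ a.2.1,
        fun h => a.2.2 (conj_eq_one_iff.1 h)⟩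
      one_smul := fun a => Subtype.ext (by show ((1 : twoPt z u) : G) * a.1 * _ = _; simp)
      mul_smul := fun e f a => Subtype.ext (by
        show ((e * f : twoPt z u) : G) * a.1 * _ = (e : G) * ((f : G) * a.1 * (f : G)⁻¹) * (e : G)⁻¹
        simp [mul_assoc]) }
  have hfree : ∀ a : α, MulAction.stabilizer (twoPt z u) a = ⊥ := fun a => by
    refine (Subgroup.eq_bot_iff_forall _).2 fun e he => Subtype.ext ?_
    refine d.inf_cent_eq_one huH e.2 (d.mem_cent_of_commute a.2.1.1 a.2.2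
      (d.two_not_dvd_twoPt huH e.2) ?_)
    exact mul_inv_eq_iff_eq_mul.1 (congrArg Subtype.val (show e • a = a from he))
  have hdvd : Nat.card (twoPt z u) ∣ Nat.card α :=
    ⟨Nat.card (Quotient (MulAction.orbitRel (twoPt z u) α)), by
      rw [Nat.card_congr (MulAction.selfEquivOrbitsQuotientProd hfree), Nat.card_prod, mul_comm]⟩
  have hα : Nat.card α = Nat.card X - 1 := by
    haveI := Fintype.ofFinite X
    let e : α ≃ {a : X // a ≠ 1} :=
      { toFun := fun a => ⟨⟨a.1, a.2.1⟩, fun h => a.2.2 (congrArg Subtype.val h)⟩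
        invFun := fun a => ⟨a.1.1, a.1.2, fun h => a.2 (Subtype.ext h)⟩
        left_inv := fun _ => rfl
        right_inv := fun _ => rfl }
    rw [Nat.card_congr e, Nat.card_eq_fintype_card, Fintype.card_subtype_compl,
      Fintype.card_subtype_eq, ← Nat.card_eq_fintype_card]
  obtain ⟨i, hi, hXi⟩ : ∃ i ≤ 2 * n, Nat.card X = 2 ^ i := by
    refine (Nat.dvd_prime_pow Nat.prime_two).1 ?_
    rw [mul_comm 2 n, pow_mul, ← hC]
    exact card_dvd_of_le inf_le_left
  let f : Option (Option {t : G // orderOf t = 2 ∧ t ∈ nz z}) → X := fun o =>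
    match o with
    | none => 1
    | some none => ⟨x, hx, self_mem_cent x⟩
    | some (some t) => ⟨t.1, d.invo_mem t.2.1 t.2.2,
        mem_cent.2 (d.invo_central t.2.1 t.2.2 hx).symm⟩
  have hf : Function.Injective f := by
    rintro (_ | _ | ⟨t, ht⟩) (_ | _ | ⟨s, hs⟩) h <;>
      have h' := congrArg (fun a : X => (a : G)) h
    · rfl
    · exact absurd h'.symm hx1
    · exact absurd h'.symm (SECount.invo_ne_one hs.1)
    · exact absurd h' hx1
    · rfl
    · exact absurd ((congrArg orderOf h').trans hs.1) hx2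
    · exact absurd h' (SECount.invo_ne_one ht.1)
    · exact absurd ((congrArg orderOf h').symm.trans ht.1) hx2
    · exact congrArg (fun a => some (some a)) (Subtype.ext h')
  have hlt : 2 ^ n < 2 ^ i := by
    have h := Nat.card_le_card_of_injective f hf
    rw [Finite.card_option, Finite.card_option, ← d.card_twoPt hu huH, hD, hXi] at h
    have := Nat.one_le_two_pow (n := n)
    omega
  rw [hD, hα, hXi] at hdvd
  have hi2 := dvd_two_pow_sub_one hn ((Nat.pow_lt_pow_iff_right (by norm_num : 1 < 2)).1 hlt) hi hdvd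
  refine eq_of_le_of_card_ge inf_le_left (le_of_eq ?_)
  rw [hC, hXi, hi2, mul_comm 2 n, pow_mul]

/-- `C` is abelian. -/
theorem cent_comm {x y : G} (hx : x ∈ cent z) (hy : y ∈ cent z) : x * y = y * x := by
  classical
  by_contra hne
  obtain ⟨u, hu, huH⟩ := d.exists_invo
  have hZ := d.isZassenhaus
  haveI := d.isSimple
  haveI := Fintype.ofFinite (G ⧸ nz z)
  have hpp := Cfsg.Agent.S0346.result hZ
  rw [← Nat.card_eq_fintype_card, d.card_points, Nat.add_sub_cancel] at hpp
  obtain ⟨p, k, hp, hk, hpk⟩ := (isPrimePow_nat_iff _).1 hpp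
  have hev := d.even_cent.two_dvd
  rw [← hpk] at hev
  obtain rfl : 2 = p := (Nat.prime_dvd_prime_iff_eq Nat.prime_two hp).1 (Nat.prime_two.dvd_of_dvd_pow hev)
  have hsuz : Cfsg.IsSuzuki G := by
    refine Cfsg.Agent.S0347.result hZ ((1 : G) : G ⧸ nz z) (cent z)
      (fun a ha => (smul_base d).2 (le_normalizer ha)) ?_ (IsPGroup.of_card hpk.symm)
      ⟨⟨x, hx⟩, ⟨y, hy⟩, fun e => hne (congrArg Subtype.val e)⟩ fun a b ha hb => ?_
    · refine ⟨fun a ha g => ?_⟩
      exact (mem_normalizer_iff.1 ((smul_base d).1 g.2) _).1 ha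
    · obtain ⟨v, hv, hva⟩ := d.point_eq hu huH ha
      obtain ⟨w, hw, hwb⟩ := d.point_eq hu huH hb
      refine ⟨⟨w * v⁻¹, mul_mem hw (inv_mem hv)⟩, ?_, fun c hc => Subtype.ext ?_⟩
      · show (w * v⁻¹) • a = b
        rw [mul_smul, ← hva, inv_smul_smul, hwb]
      · have hc' : (c : G) • a = b := hc
        rw [← hva, ← hwb, ← mul_smul] at hc'
        exact eq_mul_inv_iff_mul_eq.2 (d.point_inj huH (mul_mem c.2 hv) hw hc')
  obtain ⟨-, m, hm, hcard⟩ := hsuz
  rw [d.card_group hu huH] at hcard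
  set n := 2 * m + 1 with hn
  set D := Nat.card (twoPt z u) with hDdef
  have hDodd : ¬ 2 ∣ D := fun h => Nat.not_even_iff_odd.2 (d.odd_twoPt huH) (even_iff_two_dvd.2 h)
  have h1 : k = 2 * n := by
    have hqodd : ¬ 2 ∣ (2 ^ n - 1) * ((2 ^ n) ^ 2 + 1) := by
      intro h
      rcases Nat.prime_two.dvd_mul.1 h with h | h
      · have : 2 ∣ 2 ^ n := dvd_pow_self 2 (by omega)
        have := Nat.one_le_two_pow (n := n)
        omega
      · have : 2 ∣ (2 ^ n) ^ 2 := dvd_pow (dvd_pow_self 2 (by omega)) (by norm_num)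
        omega
    have hodd : ¬ 2 ∣ (2 ^ k + 1) * D := by
      intro h
      rcases Nat.prime_two.dvd_mul.1 h with h | h
      · omega
      · exact hDodd h
    have h2 : 2 ^ k * ((2 ^ k + 1) * D) = 2 ^ (2 * n) * ((2 ^ n - 1) * ((2 ^ n) ^ 2 + 1)) := by
      rw [show 2 ^ (2 * n) = (2 ^ n) ^ 2 by rw [← pow_mul, mul_comm]]
      rw [← hpk] at hcard
      linarith
    have h3 : (2 ^ k * ((2 ^ k + 1) * D)).factorization 2 =
        (2 ^ (2 * n) * ((2 ^ n - 1) * ((2 ^ n) ^ 2 + 1))).factorization 2 := by rw [h2]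
    have hne1 : (2 ^ k + 1) * D ≠ 0 := fun e => hodd (by rw [e]; exact dvd_zero 2)
    have hne2 : (2 ^ n - 1) * ((2 ^ n) ^ 2 + 1) ≠ 0 := fun e => hqodd (by rw [e]; exact dvd_zero 2)
    rw [Nat.factorization_mul (by positivity) hne1, Nat.factorization_mul (by positivity) hne2] at h3
    simpa [Nat.Prime.factorization_pow Nat.prime_two, Nat.factorization_eq_zero_of_not_dvd hodd,
      Nat.factorization_eq_zero_of_not_dvd hqodd] using h3
  have hC : Nat.card (cent z) = (2 ^ n) ^ 2 := by rw [← hpk, h1, ← pow_mul, mul_comm]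
  have hD' : D = 2 ^ n - 1 := by
    rw [hC] at hcard
    have hpos : 0 < ((2 ^ n) ^ 2 + 1) * (2 ^ n) ^ 2 := by positivity
    refine Nat.eq_of_mul_eq_mul_left hpos ?_
    linarith
  exact hne (d.comm_of_suzuki_order (by omega) hC hu huH hD' hx hy)

theorem hasAbelianCent : AbelianInvCentralizer.HasAbelianCent G := by
  intro t ht a b ha hb
  obtain ⟨g, hg⟩ := isConj_iff.1 (SECount.isConj_invo d.stronglyEmbedded d.ord
    (AbelianInvCentralizer.isInv_iff.1 ht))
  subst hg
  have key : ∀ c : G, Commute c (g * z * g⁻¹) → g⁻¹ * c * g ∈ cent z := fun c hc => mem_cent.2 <| by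
    calc g⁻¹ * c * g * z = g⁻¹ * (c * (g * z * g⁻¹)) * g := by group
      _ = z * (g⁻¹ * c * g) := by rw [hc.eq]; group
  calc a * b = g * ((g⁻¹ * a * g) * (g⁻¹ * b * g)) * g⁻¹ := by group
    _ = g * ((g⁻¹ * b * g) * (g⁻¹ * a * g)) * g⁻¹ := by rw [d.cent_comm (key a ha) (key b hb)]
    _ = b * a := by group

theorem exists_psl : ∃ n : ℕ, 2 ≤ n ∧
    Nonempty (G ≃* Matrix.ProjectiveSpecialLinearGroup (Fin 2) (GaloisField 2 n)) := by
  classical
  haveI : Fact (Nat.Prime 2) := ⟨Nat.prime_two⟩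
  have hzI : AbelianInvCentralizer.IsInv z := AbelianInvCentralizer.isInv_iff.2 d.ord
  obtain ⟨u, hu, huH⟩ := d.exists_invo
  have hS : AbelianInvCentralizer.HasSpread G := ⟨z, u, hzI, AbelianInvCentralizer.isInv_iff.2 hu,
    fun h => huH (le_normalizer (mem_cent.2 h.symm))⟩
  have hF : AbelianInvCentralizer.HasFour G := by
    haveI : Nontrivial {t : G // orderOf t = 2 ∧ t ∈ nz z} :=
      Finite.one_lt_card_iff_nontrivial.1 d.two_le_invo
    obtain ⟨⟨t, ht, htM⟩, hne⟩ := exists_ne (⟨z, d.ord, le_normalizer (self_mem_cent z)⟩ :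
      {t : G // orderOf t = 2 ∧ t ∈ nz z})
    exact ⟨z, t, hzI, AbelianInvCentralizer.isInv_iff.2 ht, fun e => hne (Subtype.ext e.symm),
      (mem_cent.1 (d.invo_mem ht htM)).symm⟩
  obtain ⟨F, hFf, hFt, f, hchar, hf2, hFcard, -, ⟨e⟩⟩ :=
    AbelianInvCentralizer.exists_slTwo_prod d.hasAbelianCent hS hF
  haveI : Subsingleton (center G) := by
    rw [center_eq_bot d.noNil]; infer_instance
  haveI : Unique (center G) := uniqueOfSubsingleton 1
  haveI : Finite (GaloisField 2 f) := inferInstance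
  haveI := Fintype.ofFinite (GaloisField 2 f)
  have σ : F ≃+* GaloisField 2 f := FiniteField.ringEquivOfCardEq (by
    rw [hFcard, ← Nat.card_eq_fintype_card (α := GaloisField 2 f), GaloisField.card 2 f (by omega)])
  obtain ⟨e'⟩ := SelfNormalizing.nonempty_slTwo_congr σ
  obtain ⟨e''⟩ := SelfNormalizing.nonempty_slTwo_psl (F := GaloisField 2 f)
  exact ⟨f, hf2, ⟨((e.trans MulEquiv.prodUnique).trans e').trans e''.symm⟩⟩

end Data

theorem main (hG : Hyp G) :
    Group.IsNilpotent G ∨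
    (∃ H : Subgroup G, Cfsg.IsFrobeniusComplement H ∧
      (IsCyclic H ∨ ∃ m : ℕ, Odd m ∧ Nonempty (H ≃* Multiplicative (ZMod m) × QuaternionGroup 2))) ∨
    (∃ n : ℕ, 2 ≤ n ∧ Nonempty (G ≃* Matrix.ProjectiveSpecialLinearGroup (Fin 2) (GaloisField 2 n))) := by
  by_cases hN : NoNil G
  · rcases subsingleton_or_nontrivial G with hs | hnt
    · exact Or.inl (isNilpotent_of_conj_commute fun x g => Subsingleton.elim _ _)
    · obtain ⟨S, z, d⟩ := exists_data hG hN hnt
      exact Or.inr (Or.inr d.exists_psl)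
  · simp only [NoNil, not_forall] at hN
    obtain ⟨A, hA, hAn, hA1⟩ := hN
    exact (frobenius_of_normal_nilpotent hG hA hAn hA1).imp_right Or.inl

end Cfsg.Agent.Lib.TICentralisers
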